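import Cfsg.Agent.Invol.ZStar
import Cfsg.Agent.LocalStructure.WeaklyClosed

/-!
A central weakly closed subgroup `W` of a Sylow 2-subgroup and an involution `t` outside it, with
`W ≤ O_{2',2}(C(x))` for the involutions `x` of `W t`: the group is not simple.

For `z ∈ W` and `x` in `W t` the products `x z^g` lie in the 2-sections of the involutions `x w`,
so the principal block characters restricted to `W t` are eigenfunctions of a matrix all of whose
column sums are `|z^G|`.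
-/

set_option autoImplicit false
set_option linter.all false

namespace Cfsg.Agent.WeakCosetTwo

open Subgroup

universe u

variable {G : Type u} [Group G] [Finite G]

/-- `O(C(x))`, as a subgroup of `G`. -/
noncomputable def oddC (x : G) : Subgroup G :=
  (Cfsg.pPrimeCore 2 (centralizer ({x} : Set G))).map (centralizer ({x} : Set G)).subtype

theorem mem_cent_iff {x y : G} : y ∈ centralizer ({x} : Set G) ↔ Commute y x := by
  rw [mem_centralizer_singleton_iff]; exact Iff.rfl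

theorem oddC_commute {x o : G} (ho : o ∈ oddC x) : Commute o x := by
  obtain ⟨o', -, rfl⟩ := mem_map.1 ho
  exact mem_cent_iff.1 o'.2

theorem oddC_conj {x a o : G} (ha : Commute a x) (ho : o ∈ oddC x) : a * o * a⁻¹ ∈ oddC x := by
  obtain ⟨o', ho', rfl⟩ := mem_map.1 ho
  exact ⟨(⟨a, mem_cent_iff.2 ha⟩ : centralizer ({x} : Set G)) * o' *
    (⟨a, mem_cent_iff.2 ha⟩ : centralizer ({x} : Set G))⁻¹,
    (inferInstance : (Cfsg.pPrimeCore 2 (centralizer ({x} : Set G))).Normal).conj_mem o' ho' _, rfl⟩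

theorem oddC_odd {x o : G} (ho : o ∈ oddC x) : Odd (orderOf o) := by
  haveI : Fact (Nat.Prime 2) := ⟨Nat.prime_two⟩
  obtain ⟨o', ho', rfl⟩ := mem_map.1 ho
  rw [Subgroup.subtype_apply, orderOf_coe, ← Nat.not_even_iff_odd, even_iff_two_dvd]
  intro hd
  refine Core.not_dvd_card_pPrimeCore (p := 2) (G := centralizer ({x} : Set G)) (hd.trans ?_)
  rw [← Subgroup.orderOf_mk o' ho']
  exact orderOf_dvd_natCard _

/-- `(a v) ^ k ∈ a ^ k O(C(x))`. -/
theorem mul_pow_mem {x a v : G} (ha : Commute a x) (hv : v ∈ oddC x) (k : ℕ) :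
    (a ^ k)⁻¹ * (a * v) ^ k ∈ oddC x := by
  induction k with
  | zero => simp [one_mem]
  | succ k ih =>
    have h1 := mul_mem (oddC_conj ha.inv_left ih) hv
    rw [inv_inv] at h1
    have he : (a ^ (k + 1))⁻¹ * (a * v) ^ (k + 1) = a⁻¹ * ((a ^ k)⁻¹ * (a * v) ^ k) * a * v := by
      rw [pow_succ, pow_succ]; group
    rw [he]
    exact h1

/-- The 2-part of a product of a commuting involution and element of odd order is unique. -/
theorem two_part_unique {a a' v v' : G} (ha : orderOf a = 2) (ha' : orderOf a' = 2)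
    (hv : Odd (orderOf v)) (hv' : Odd (orderOf v')) (hc : Commute a v) (hc' : Commute a' v')
    (he : a * v = a' * v') : a = a' := by
  have hm : Odd (orderOf v * orderOf v') := hv.mul hv'
  have hp : ∀ b : G, orderOf b = 2 → b ^ (orderOf v * orderOf v') = b := fun b hb => by
    obtain ⟨i, hi⟩ := hm
    rw [hi, pow_succ, pow_mul, pow_two, Invol.mul_self_eq_one hb, one_pow, one_mul]
  have h1 : v ^ (orderOf v * orderOf v') = 1 := orderOf_dvd_iff_pow_eq_one.1 (Dvd.intro _ rfl)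
  have h2 : v' ^ (orderOf v * orderOf v') = 1 :=
    orderOf_dvd_iff_pow_eq_one.1 (Dvd.intro_left _ rfl)
  have h := congrArg (· ^ (orderOf v * orderOf v')) he
  simp only [hc.mul_pow, hc'.mul_pow, h1, h2, mul_one, hp a ha, hp a' ha'] at h
  exact h

/-- The hypotheses. -/
structure Hyp (T : Sylow 2 G) (W : Subgroup G) (t : G) : Prop where
  leT : W ≤ (T : Subgroup G)
  comm : ∀ w ∈ W, ∀ s ∈ (T : Subgroup G), Commute w s
  wc : Cfsg.IsWeaklyClosed W (T : Subgroup G)
  t_ord : orderOf t = 2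
  t_mem : t ∈ (T : Subgroup G)
  t_notMem : t ∉ W
  coset : ∀ w ∈ W, orderOf (w * t) = 2 →
    W.subgroupOf (centralizer ({w * t} : Set G)) ≤ Cfsg.pPrimePCore 2 ↥(centralizer ({w * t} : Set G))

/-- The involutions of `W t`. -/
def cosetInv (W : Subgroup G) (t : G) : Set G := {x | ∃ w ∈ W, x = w * t ∧ orderOf x = 2}

variable {T : Sylow 2 G} {W : Subgroup G} {t : G}

theorem Hyp.unique (h : Hyp T W t) {P : Subgroup G} (hP : IsPGroup 2 P) {a b : G}
    (ha : ∀ w ∈ W, a * w * a⁻¹ ∈ P) (hb : ∀ w ∈ W, b * w * b⁻¹ ∈ P) {w : G} (hw : w ∈ W) :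
    b⁻¹ * (a * w * a⁻¹) * b ∈ W := by
  haveI : Fact (Nat.Prime 2) := ⟨Nat.prime_two⟩
  have hQS : W ≤ LocalStructure.cmap b⁻¹ P := fun x hx => by
    rw [LocalStructure.mem_cmap, inv_inv]; exact hb x hx
  have hg : LocalStructure.cmap (b⁻¹ * a) W ≤ LocalStructure.cmap b⁻¹ P := fun x hx => by
    rw [LocalStructure.mem_cmap, inv_inv]
    have h1 := ha _ (LocalStructure.mem_cmap.1 hx)
    convert h1 using 1
    group
  have he := LocalStructure.wc_eq ⟨T, h.wc⟩ (hP.map _) hQS hg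
  rw [← he, LocalStructure.mem_cmap]
  convert hw using 1
  group

/-- `W` is strongly closed. -/
theorem Hyp.strong (h : Hyp T W t) {g a : G} (ha : a ∈ W) (hy : g * a * g⁻¹ ∈ (T : Subgroup G)) :
    g * a * g⁻¹ ∈ W := by
  haveI : Fact (Nat.Prime 2) := ⟨Nat.prime_two⟩
  obtain ⟨y, hyd⟩ : ∃ y, y = g * a * g⁻¹ := ⟨_, rfl⟩
  rw [← hyd] at hy ⊢
  have hTg : ∀ s ∈ (T : Subgroup G), g * s * g⁻¹ ∈ centralizer ({y} : Set G) := fun s hs => by
    rw [mem_cent_iff, hyd]; exact (Commute.conj_iff g).2 (h.comm a ha s hs).symm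
  have hle : ((g • T : Sylow 2 G) : Subgroup G) ≤ centralizer ({y} : Set G) := fun x hx => by
    rw [Sylow.coe_subgroup_smul, Subgroup.mem_pointwise_smul_iff_inv_smul_mem, ← map_inv,
      MulAut.smul_def, MulAut.conj_apply, inv_inv] at hx
    have := hTg _ hx
    convert this using 1
    group
  have hWC : W ≤ centralizer ({y} : Set G) := fun w hw => mem_cent_iff.2 (h.comm w hw y hy)
  obtain ⟨c, hc⟩ := FusSys.exists_conj_mem_sylow
    (((T.isPGroup'.to_le h.leT)).comap_subtype (K := centralizer ({y} : Set G)))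
    ((g • T).subtype hle)
  have hcy : Commute (c : G) y := mem_cent_iff.1 c.2
  have hcW : ∀ w ∈ W, (c : G) * w * (c : G)⁻¹ ∈ ((g • T : Sylow 2 G) : Subgroup G) := fun w hw =>
    mem_subgroupOf.1 (hc ⟨w, hWC hw⟩ (mem_subgroupOf.2 hw))
  have hgW : ∀ w ∈ W, g * w * g⁻¹ ∈ ((g • T : Sylow 2 G) : Subgroup G) := fun w hw => by
    rw [Sylow.coe_subgroup_smul]
    exact ⟨w, h.leT hw, by simp⟩
  have hf := h.unique (g • T).isPGroup' hgW hcW ha
  rwa [← hyd, mul_assoc, ← hcy.eq, ← mul_assoc, inv_mul_cancel, one_mul] at hf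

/-- A conjugate of an element of `W` is central in every 2-group containing it. -/
theorem Hyp.central (h : Hyp T W t) {y a : G} (ha : a ∈ W) (hy : IsConj a y) {P : Subgroup G}
    (hP : IsPGroup 2 P) (hyP : y ∈ P) {s : G} (hs : s ∈ P) : Commute y s := by
  haveI : Fact (Nat.Prime 2) := ⟨Nat.prime_two⟩
  obtain ⟨g, rfl⟩ := isConj_iff.1 hy
  obtain ⟨x, hx⟩ := FusSys.exists_conj_mem_sylow hP T
  have h1 := hx _ hyP
  have he : x * (g * a * g⁻¹) * x⁻¹ = x * g * a * (x * g)⁻¹ := by group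
  rw [he] at h1
  have h2 := h.comm _ (h.strong ha h1) _ (hx s hs)
  rw [← he] at h2
  exact (Commute.conj_iff x).1 h2

theorem Hyp.coset_props (h : Hyp T W t) {x : G} (hx : x ∈ cosetInv W t) :
    orderOf x = 2 ∧ x ∈ (T : Subgroup G) ∧ x ∉ W ∧ (∀ w ∈ W, Commute w x) ∧
      W.subgroupOf (centralizer ({x} : Set G)) ≤ Cfsg.pPrimePCore 2 ↥(centralizer ({x} : Set G)) := by
  obtain ⟨w, hw, rfl, ho⟩ := hx
  refine ⟨ho, mul_mem (h.leT hw) h.t_mem, fun hm => h.t_notMem ?_, fun v hv => ?_, h.coset w hw ho⟩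
  · have := mul_mem (inv_mem hw) hm
    rwa [inv_mul_cancel_left] at this
  · exact h.comm v hv _ (mul_mem (h.leT hw) h.t_mem)

theorem Hyp.mul_mem_coset (h : Hyp T W t) {x w : G} (hx : x ∈ cosetInv W t) (hw : w ∈ W)
    (hw2 : orderOf w = 2) : x * w ∈ cosetInv W t := by
  obtain ⟨hxo, hxT, hxW, hxc, -⟩ := h.coset_props hx
  obtain ⟨w', hw', hxe, -⟩ := hx
  refine ⟨w' * w, mul_mem hw' hw, ?_, ?_⟩
  · rw [hxe, mul_assoc, ← (h.comm w hw t h.t_mem).eq, mul_assoc]
  · refine orderOf_eq_prime ?_ fun e => hxW ?_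
    · rw [(hxc w hw).symm.mul_pow, pow_two, pow_two, Invol.mul_self_eq_one hxo,
        Invol.mul_self_eq_one hw2, one_mul]
    · rw [eq_inv_of_mul_eq_one_left e]; exact inv_mem hw

theorem Hyp.W_inter_oddC (h : Hyp T W t) {x w : G} (hw : w ∈ W) (ho : w ∈ oddC x) : w = 1 := by
  obtain ⟨k, hk⟩ := T.isPGroup' ⟨w, h.leT hw⟩
  have h1 : orderOf w ∣ 2 ^ k := orderOf_dvd_of_pow_eq_one (congrArg Subtype.val hk)
  rw [← orderOf_eq_one_iff]
  exact Nat.eq_one_of_dvd_coprimes
    (Nat.Coprime.pow_right k ((Nat.coprime_two_right).2 (oddC_odd ho))) (dvd_refl _) h1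

/-- A conjugate of `z` centralizing `x` is conjugate under `O(C(x))` into `W`. -/
theorem Hyp.exists_rep (h : Hyp T W t) {x y z : G} (hx : x ∈ cosetInv W t) (hz : z ∈ W)
    (hy : IsConj z y) (hyx : Commute y x) :
    ∃ o ∈ oddC x, ∃ w ∈ W, IsConj z w ∧ y = o * w * o⁻¹ := by
  classical
  haveI : Fact (Nat.Prime 2) := ⟨Nat.prime_two⟩
  obtain ⟨-, -, -, hxc, hM⟩ := h.coset_props hx
  obtain ⟨O, hO⟩ : ∃ O, O = Cfsg.pPrimeCore 2 (centralizer ({x} : Set G)) := ⟨_, rfl⟩
  obtain ⟨yC, hyC⟩ : ∃ yC : centralizer ({x} : Set G), (yC : G) = y := ⟨⟨y, mem_cent_iff.2 hyx⟩, rfl⟩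
  have hyp : IsPGroup 2 (zpowers yC) := by
    obtain ⟨k, hk⟩ : ∃ k, orderOf z = 2 ^ k := IsPGroup.iff_orderOf.1 T.isPGroup' ⟨z, h.leT hz⟩ |>.imp
      fun k hk => by rwa [Subgroup.orderOf_mk] at hk
    obtain ⟨g, hg⟩ := isConj_iff.1 hy
    refine IsPGroup.of_card (n := k) ?_
    rw [Nat.card_zpowers, ← orderOf_coe, hyC, ← hg, Invol.orderOf_conj, hk]
  obtain ⟨P, hP⟩ := hyp.exists_le_sylow
  have hWP : W.subgroupOf (centralizer ({x} : Set G)) ≤ (P : Subgroup (centralizer ({x} : Set G))) ⊔ O := by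
    intro w hw
    have h1 := hM hw
    rw [Cfsg.pPrimePCore, mem_comap] at h1
    have h2 := Core.pCore_le_sylow (P.mapSurjective (f := QuotientGroup.mk'
      (Cfsg.pPrimeCore 2 (centralizer ({x} : Set G)))) (QuotientGroup.mk'_surjective _)) h1
    rw [Sylow.coe_mapSurjective, mem_map] at h2
    obtain ⟨p, hp, hpw⟩ := h2
    have h3 : p⁻¹ * w ∈ O := hO ▸ QuotientGroup.eq.1 hpw
    have := mul_mem (mem_sup_left (T := O) hp) (mem_sup_right (S := (P : Subgroup (centralizer ({x} : Set G)))) h3)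
    rwa [mul_inv_cancel_left] at this
  haveI : O.Normal := hO ▸ inferInstance
  have hpW : IsPGroup 2 ((W.subgroupOf (centralizer ({x} : Set G))).subgroupOf
      ((P : Subgroup (centralizer ({x} : Set G))) ⊔ O)) :=
    IsPGroup.comap_subtype (IsPGroup.comap_subtype (T.isPGroup'.to_le h.leT))
  obtain ⟨k, hk⟩ := FusSys.exists_conj_mem_sylow hpW
    (P.subtype (le_sup_left (b := O)))
  obtain ⟨p, hp, o, ho, hpo⟩ := mem_sup_of_normal_right.1 k.2
  have hoW : ∀ w, ∀ hw : w ∈ W, (o : G) * w * (o : G)⁻¹ ∈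
      (P : Subgroup (centralizer ({x} : Set G))).map (centralizer ({x} : Set G)).subtype := by
    intro w hw
    have hwC : (⟨w, mem_cent_iff.2 (hxc w hw)⟩ : centralizer ({x} : Set G)) ∈
        W.subgroupOf (centralizer ({x} : Set G)) := mem_subgroupOf.2 hw
    have h1 := mem_subgroupOf.1 (hk ⟨_, hWP hwC⟩ (mem_subgroupOf.2 hwC))
    simp only [Subgroup.coe_mul, Subgroup.coe_inv] at h1
    rw [← hpo] at h1
    have h2 := mul_mem (mul_mem (inv_mem hp) h1) hp
    refine ⟨_, h2, ?_⟩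
    simp only [map_mul, map_inv, Subgroup.subtype_apply]
    group
  have hQ : IsPGroup 2 ((P : Subgroup (centralizer ({x} : Set G))).map (centralizer ({x} : Set G)).subtype) :=
    P.isPGroup'.map _
  have hyQ : y ∈ (P : Subgroup (centralizer ({x} : Set G))).map (centralizer ({x} : Set G)).subtype :=
    ⟨yC, hP (mem_zpowers yC), hyC⟩
  obtain ⟨g, hg⟩ := isConj_iff.1 hy
  obtain ⟨b, hb⟩ := FusSys.exists_conj_mem_sylow hQ T
  have hyW : b * y * b⁻¹ ∈ W := by
    have := hb y hyQ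
    rw [← hg] at this ⊢
    have he : b * (g * z * g⁻¹) * b⁻¹ = b * g * z * (b * g)⁻¹ := by group
    rw [he] at this ⊢
    exact h.strong hz this
  have hW1 : ∀ w ∈ W, b * (o : G) * w * (b * (o : G))⁻¹ ∈ (T : Subgroup G) := fun w hw => by
    have := hb _ (hoW w hw)
    convert this using 1
    group
  have hfin := h.unique T.isPGroup' (a := (1 : G)) (b := b * (o : G))
    (fun w hw => by simpa using h.leT hw) hW1 hyW
  refine ⟨o, ⟨o, hO ▸ ho, rfl⟩, (b * (o : G))⁻¹ * (1 * (b * y * b⁻¹) * 1⁻¹) * (b * (o : G)), hfin,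
    hy.trans (isConj_iff.2 ⟨(o : G)⁻¹, by group⟩), by group⟩

theorem Hyp.rep_unique (h : Hyp T W t) {x w w' o o' : G} (hx : x ∈ cosetInv W t) (hw : w ∈ W)
    (hw' : w' ∈ W) (ho : o ∈ oddC x) (ho' : o' ∈ oddC x) (he : o * w * o⁻¹ = o' * w' * o'⁻¹) :
    w = w' := by
  obtain ⟨-, -, -, hxc, -⟩ := h.coset_props hx
  have hd : o'⁻¹ * o ∈ oddC x := mul_mem (inv_mem ho') ho
  have h1 : w⁻¹ * (o'⁻¹ * o) * w⁻¹⁻¹ * (o'⁻¹ * o)⁻¹ ∈ oddC x :=
    mul_mem (oddC_conj (hxc w hw).inv_left hd) (inv_mem hd)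
  have he' : w⁻¹ * (o'⁻¹ * o) * w⁻¹⁻¹ * (o'⁻¹ * o)⁻¹ = w⁻¹ * w' := by
    calc w⁻¹ * (o'⁻¹ * o) * w⁻¹⁻¹ * (o'⁻¹ * o)⁻¹ = w⁻¹ * o'⁻¹ * (o * w * o⁻¹) * o' := by group
      _ = w⁻¹ * o'⁻¹ * (o' * w' * o'⁻¹) * o' := by rw [he]
      _ = w⁻¹ * w' := by group
  rw [he'] at h1
  exact inv_mul_eq_one.1 (h.W_inter_oddC (mul_mem (inv_mem hw) hw') h1)

/-- The structure of `x q` for `q` an `O(C(x w))`-conjugate of `w`. -/
theorem Hyp.prod_form (h : Hyp T W t) {x w o : G} (hx : x ∈ cosetInv W t) (hw : w ∈ W)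
    (hw2 : orderOf w = 2) (ho : o ∈ oddC (x * w)) :
    ∃ v ∈ oddC (x * w), x * (o * w * o⁻¹) = x * w * v := by
  obtain ⟨-, -, -, hxc, -⟩ := h.coset_props hx
  have hc : Commute w (x * w) := (hxc w hw).mul_right (Commute.refl w)
  refine ⟨w * o * w⁻¹ * o⁻¹, mul_mem (oddC_conj hc ho) (inv_mem ho), ?_⟩
  have hww : w * w = 1 := Invol.mul_self_eq_one hw2
  rw [Invol.inv_eq_self hw2]
  calc x * (o * w * o⁻¹) = x * (w * w) * o * w * o⁻¹ := by rw [hww, mul_one]; group
    _ = x * w * (w * o * w * o⁻¹) := by group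

/-- Every conjugate of `z` has the standard shape relative to `x`. -/
theorem Hyp.exists_shape (h : Hyp T W t) {x y z : G} (hx : x ∈ cosetInv W t) (hz : z ∈ W)
    (hz2 : orderOf z = 2) (hy : IsConj z y) :
    ∃ w ∈ W, IsConj z w ∧ ∃ c ∈ oddC x, ∃ o ∈ oddC (x * w), y = c * (o * w * o⁻¹) * c⁻¹ := by
  obtain ⟨hxo, hxT, hxW, hxc, -⟩ := h.coset_props hx
  have hy2 : orderOf y = 2 := Invol.orderOf_eq_two_of_isConj hy hz2
  have hnodd : ¬ Odd (orderOf (x * y)) := fun ho => by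
    obtain ⟨g, hg⟩ := isConj_iff.1 (hy.trans (Invol.isConj_of_odd hxo hy2 ho).symm)
    exact hxW (hg ▸ h.strong hz (hg ▸ hxT))
  obtain ⟨r, hr⟩ : ∃ r, r = x * y := ⟨_, rfl⟩
  rw [← hr] at hnodd
  have hxx := Invol.mul_self_eq_one hxo
  have hyy := Invol.mul_self_eq_one hy2
  have hinv : x * r * x⁻¹ = r⁻¹ := by
    rw [hr, mul_inv_rev, Invol.inv_eq_self hxo, Invol.inv_eq_self hy2, ← mul_assoc, hxx, one_mul]
  have hyr : y = x * r := by rw [hr, ← mul_assoc, hxx, one_mul]
  have hxpow : ∀ k : ℤ, x * r ^ k * x⁻¹ = r ^ (-k) := fun k => by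
    rw [← conj_zpow, hinv, inv_zpow, zpow_neg]
  obtain ⟨a, m, hm, hn⟩ := Nat.exists_eq_two_pow_mul_odd (orderOf_pos r).ne'
  obtain ⟨i, hi⟩ := hm
  -- `x r ^ m` is a conjugate of `y` in a 2-group with `x`
  have hconj : r ^ (-(i : ℤ)) * y * (r ^ (-(i : ℤ)))⁻¹ = x * r ^ m := by
    have e1 : r ^ (-(i : ℤ)) * x = x * r ^ (i : ℤ) := by
      rw [← hxpow (i : ℤ), inv_mul_cancel_right]
    rw [hyr, ← mul_assoc, e1, zpow_neg, inv_inv, ← zpow_natCast r m, hi, mul_assoc x, mul_assoc x,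
      ← zpow_add_one, ← zpow_add]
    push_cast
    ring_nf
  have hA : IsPGroup 2 (zpowers (r ^ m)) := by
    refine IsPGroup.of_card (n := a) ?_
    rw [Nat.card_zpowers, orderOf_pow_of_dvd (by omega) (hn ▸ Dvd.intro_left _ rfl), hn]
    exact Nat.mul_div_cancel _ (by omega)
  have hB : IsPGroup 2 (zpowers x) :=
    IsPGroup.of_card (n := 1) (by rw [Nat.card_zpowers, hxo, pow_one])
  have hnor : zpowers x ≤ normalizer (zpowers (r ^ m) : Set G) := by
    rw [zpowers_le, mem_normalizer_iff_map_conj_eq, MonoidHom.map_zpowers]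
    simp only [MulEquiv.toMonoidHom_eq_coe, MonoidHom.coe_coe, MulAut.conj_apply]
    rw [← zpow_natCast, hxpow, zpow_neg, zpowers_inv]
  have hP := hA.to_sup_of_normal_left' hB hnor
  have hxP : x ∈ zpowers (r ^ m) ⊔ zpowers x := mem_sup_right (mem_zpowers x)
  have hz2P : x * r ^ m ∈ zpowers (r ^ m) ⊔ zpowers x :=
    mul_mem hxP (mem_sup_left (mem_zpowers _))
  have hz2c : IsConj z (x * r ^ m) := hy.trans (isConj_iff.2 ⟨_, hconj⟩)
  have hcomm : Commute (x * r ^ m) x := h.central hz hz2c hP hz2P hxP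
  have hjx : Commute (r ^ m) x := by
    have := (Commute.refl x).mul_left hcomm
    rwa [← mul_assoc, hxx, one_mul] at this
  have hj2 : r ^ m * r ^ m = 1 := by
    have h1 := hxpow (m : ℤ)
    rw [zpow_natCast, ← hjx.eq, mul_inv_cancel_right, zpow_neg, zpow_natCast] at h1
    exact mul_eq_one_iff_eq_inv.2 h1
  have hj1 : r ^ m ≠ 1 := fun e => hnodd
    ((show Odd m from ⟨i, hi⟩).of_dvd_nat (orderOf_dvd_of_pow_eq_one e))
  obtain ⟨c, hc, w, hw, hzw, hce⟩ := h.exists_rep hx hz hz2c hcomm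
  have hw2 : orderOf w = 2 := Invol.orderOf_eq_two_of_isConj hzw hz2
  have hcx : Commute c x := oddC_commute hc
  have hjw : c⁻¹ * r ^ m * c = x * w := by
    calc c⁻¹ * r ^ m * c = c⁻¹ * (x * (x * r ^ m)) * c := by rw [← mul_assoc x, hxx, one_mul]
      _ = c⁻¹ * x * (c * w * c⁻¹) * c := by rw [hce]; group
      _ = (c⁻¹ * x * c) * w := by group
      _ = x * w := by rw [mul_assoc c⁻¹ x c, hcx.symm.eq, inv_mul_cancel_left]
  have hjy : Commute y (r ^ m) := by
    rw [hyr]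
    exact hjx.symm.mul_left ((Commute.refl r).pow_right m)
  have hq : Commute (c⁻¹ * y * c) (x * w) := by
    rw [← hjw]
    simpa [mul_assoc] using (Commute.conj_iff c⁻¹).2 hjy
  have hxw := h.mul_mem_coset hx hw hw2
  obtain ⟨o, ho, w', hw', hzw', hoe⟩ := h.exists_rep hxw hz
    (hy.trans (isConj_iff.2 ⟨c⁻¹, by group⟩)) hq
  have hw'2 : orderOf w' = 2 := Invol.orderOf_eq_two_of_isConj hzw' hz2
  -- `w' = w`
  have hcxw : Commute x (x * w) := (Commute.refl x).mul_right (hxc w hw).symm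
  have hcw' : Commute w' (x * w) := (hxc w' hw').mul_right (h.comm w' hw' w (h.leT hw))
  have hv : w' * o * w'⁻¹ * o⁻¹ ∈ oddC (x * w) := mul_mem (oddC_conj hcw' ho) (inv_mem ho)
  have hr0 : c⁻¹ * r * c = x * w' * (w' * o * w'⁻¹ * o⁻¹) := by
    calc c⁻¹ * r * c = c⁻¹ * x * y * c := by rw [hr]; group
      _ = (c⁻¹ * x * c) * (c⁻¹ * y * c) := by group
      _ = x * (o * w' * o⁻¹) := by rw [mul_assoc c⁻¹ x c, hcx.symm.eq, inv_mul_cancel_left, hoe]
      _ = x * (w' * w') * (o * w'⁻¹ * o⁻¹) := by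
        rw [Invol.mul_self_eq_one hw'2, mul_one, Invol.inv_eq_self hw'2]
      _ = _ := by group
  have hp := mul_pow_mem (hcxw.mul_left hcw') hv m
  rw [← hr0, show c⁻¹ * r * c = c⁻¹ * r * c⁻¹⁻¹ by group, conj_pow,
    show c⁻¹ * r ^ m * c⁻¹⁻¹ = c⁻¹ * r ^ m * c by group, hjw] at hp
  have hpw : (x * w') ^ m = x * w' := by
    rw [hi, pow_succ, pow_mul, (hxc w' hw').symm.mul_pow, pow_two, pow_two, hxx,
      Invol.mul_self_eq_one hw'2, one_mul, one_pow, one_mul]
  rw [hpw, mul_inv_rev, show w'⁻¹ * x⁻¹ * (x * w) = w'⁻¹ * w by group] at hp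
  obtain rfl : w' = w := inv_mul_eq_one.1 (h.W_inter_oddC (mul_mem (inv_mem hw') hw) hp)
  exact ⟨w', hw, hzw, c, hc, o, ho, by rw [← hoe]; group⟩

/-- `w`'s orbit under `O(C(x))`. -/
def orb (x w : G) : Set G := {p | ∃ o ∈ oddC x, p = o * w * o⁻¹}

/-- The involutions of `W` conjugate to `z`. -/
def fusedIn (W : Subgroup G) (z : G) : Set G := {w | w ∈ W ∧ IsConj z w}

/-- The map from triples to the class of `z`. -/
noncomputable def shapeMap (W : Subgroup G) (z x : G) :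
    (Σ w : fusedIn W z, orb x (w : G) × orb (x * (w : G)) (w : G)) → G :=
  fun s => Classical.choose s.2.1.2 * (s.2.2 : G) * (Classical.choose s.2.1.2)⁻¹

theorem shapeMap_conj {W : Subgroup G} {z x : G}
    (s : Σ w : fusedIn W z, orb x (w : G) × orb (x * (w : G)) (w : G)) :
    IsConj z (shapeMap W z x s) := by
  obtain ⟨o, -, hoe⟩ := s.2.2.2
  refine s.1.2.2.trans (isConj_iff.2 ⟨Classical.choose s.2.1.2 * o, ?_⟩)
  rw [shapeMap, hoe]
  group

theorem shapeMap_prod (h : Hyp T W t) {z x : G} (hx : x ∈ cosetInv W t) (hz2 : orderOf z = 2)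
    (s : Σ w : fusedIn W z, orb x (w : G) × orb (x * (w : G)) (w : G)) :
    ∃ v ∈ oddC (x * (s.1 : G)), x * shapeMap W z x s =
      Classical.choose s.2.1.2 * (x * (s.1 : G) * v) * (Classical.choose s.2.1.2)⁻¹ := by
  obtain ⟨o, ho, hoe⟩ := s.2.2.2
  obtain ⟨v, hv, hve⟩ := h.prod_form hx s.1.2.1 (Invol.orderOf_eq_two_of_isConj s.1.2.2 hz2) ho
  obtain ⟨hc, -⟩ := Classical.choose_spec s.2.1.2
  refine ⟨v, hv, ?_⟩
  rw [← hve, shapeMap, hoe, ← mul_assoc, ← mul_assoc, (oddC_commute hc).symm.eq]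
  group

theorem shapeMap_bij (h : Hyp T W t) {z x : G} (hx : x ∈ cosetInv W t) (hz : z ∈ W)
    (hz2 : orderOf z = 2) :
    Set.BijOn (shapeMap W z x) Set.univ {y | IsConj z y} := by
  obtain ⟨hxo, -, hxW, hxc, -⟩ := h.coset_props hx
  refine ⟨fun s _ => shapeMap_conj s, fun s _ s' _ he => ?_, fun y hy => ?_⟩
  · obtain ⟨v, hv, hve⟩ := shapeMap_prod h hx hz2 s
    obtain ⟨v', hv', hve'⟩ := shapeMap_prod h hx hz2 s'
    obtain ⟨w, p, q⟩ := s
    obtain ⟨w', p', q'⟩ := s'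
    obtain ⟨hcm, hce⟩ := Classical.choose_spec p.2
    obtain ⟨hcm', hce'⟩ := Classical.choose_spec p'.2
    dsimp only at hv hve hv' hve'
    simp only [shapeMap] at he hve hve'
    generalize hcd : Classical.choose p.2 = c at *
    generalize hcd' : Classical.choose p'.2 = c' at *
    have hwo := Invol.orderOf_eq_two_of_isConj w.2.2 hz2
    have hwo' := Invol.orderOf_eq_two_of_isConj w'.2.2 hz2
    have hxw := h.mul_mem_coset hx w.2.1 hwo
    have hxw' := h.mul_mem_coset hx w'.2.1 hwo'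
    have hpp : x * (p : G) = x * (p' : G) := by
      have e1 : ∀ (c u : G), Commute c x → x * (c * u * c⁻¹) = c * (x * u) * c⁻¹ := fun c u hc => by
        rw [← mul_assoc, ← mul_assoc, hc.symm.eq]; group
      refine two_part_unique (v := c * v * c⁻¹)
        (v' := c' * v' * c'⁻¹) ?_ ?_ ?_ ?_ ?_ ?_ ?_
      · rw [hce, e1 _ _ (oddC_commute hcm), Invol.orderOf_conj]; exact (h.coset_props hxw).1
      · rw [hce', e1 _ _ (oddC_commute hcm'), Invol.orderOf_conj]; exact (h.coset_props hxw').1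
      · rw [Invol.orderOf_conj]; exact oddC_odd hv
      · rw [Invol.orderOf_conj]; exact oddC_odd hv'
      · conv_lhs => rw [hce, e1 _ _ (oddC_commute hcm)]
        exact (Commute.conj_iff _).2 (oddC_commute hv).symm
      · conv_lhs => rw [hce', e1 _ _ (oddC_commute hcm')]
        exact (Commute.conj_iff _).2 (oddC_commute hv').symm
      · have he' := congrArg (x * ·) he
        simp only [hve, hve'] at he'
        conv_lhs => rw [hce, e1 _ _ (oddC_commute hcm)]
        conv_rhs => rw [hce', e1 _ _ (oddC_commute hcm')]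
        calc c * (x * (w : G)) * c⁻¹ * (c * v * c⁻¹)
            = c * (x * (w : G) * v) * c⁻¹ := by group
          _ = c' * (x * (w' : G) * v') * c'⁻¹ := he'
          _ = _ := by group
    have hp : (p : G) = p' := mul_left_cancel hpp
    have hw : w = w' := Subtype.ext
      (h.rep_unique hx w.2.1 w'.2.1 hcm hcm' (hce.symm.trans (hp.trans hce')))
    subst hw
    obtain rfl : p = p' := Subtype.ext hp
    obtain rfl : c = c' := hcd.symm.trans hcd'
    have hq : (q : G) = q' := by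
      simpa using he
    obtain rfl : q = q' := Subtype.ext hq
    rfl
  · obtain ⟨w, hw, hzw, c, hc, o, ho, hye⟩ := h.exists_shape hx hz hz2 hy
    have hex : ∃ c' ∈ oddC x, c * w * c⁻¹ = c' * w * c'⁻¹ := ⟨c, hc, rfl⟩
    obtain ⟨hcm, hce⟩ := Classical.choose_spec hex
    obtain ⟨d, hd⟩ : ∃ d, d = Classical.choose hex := ⟨_, rfl⟩
    rw [← hd] at hcm hce
    have hw2 := Invol.orderOf_eq_two_of_isConj hzw hz2
    have he : (d⁻¹ * c) * w = w * (d⁻¹ * c) := by
      calc d⁻¹ * c * w = d⁻¹ * (c * w * c⁻¹) * c := by group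
        _ = d⁻¹ * (d * w * d⁻¹) * c := by rw [hce]
        _ = w * (d⁻¹ * c) := by group
    have hdx : Commute (d⁻¹ * c) (x * w) :=
      ((oddC_commute hcm).inv_left.mul_left (oddC_commute hc)).mul_right he
    have hq : d⁻¹ * c * (o * w * o⁻¹) * (d⁻¹ * c)⁻¹ ∈ orb (x * w) w := by
      refine ⟨d⁻¹ * c * o * (d⁻¹ * c)⁻¹, oddC_conj hdx ho, ?_⟩
      have hwe : (d⁻¹ * c)⁻¹ * w * (d⁻¹ * c) = w := by
        rw [mul_assoc, ← he]; group
      calc d⁻¹ * c * (o * w * o⁻¹) * (d⁻¹ * c)⁻¹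
          = d⁻¹ * c * o * ((d⁻¹ * c)⁻¹ * w * (d⁻¹ * c)) * o⁻¹ * (d⁻¹ * c)⁻¹ := by
            rw [hwe]; group
        _ = _ := by group
    refine ⟨⟨⟨w, hw, hzw⟩, ⟨c * w * c⁻¹, hex⟩, ⟨_, hq⟩⟩, Set.mem_univ _, ?_⟩
    show Classical.choose hex * _ * (Classical.choose hex)⁻¹ = y
    rw [← hd, hye]
    group

open scoped Classical in
theorem not_simple (h : Hyp T W t) (hW1 : W ≠ ⊥) : ¬ IsSimpleGroup G := by
  intro hs
  haveI : Fact (Nat.Prime 2) := ⟨Nat.prime_two⟩
  have := Fintype.ofFinite G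
  obtain ⟨z, hz, hz2⟩ : ∃ z ∈ W, orderOf z = 2 := by
    have hdvd : 2 ∣ Nat.card W := by
      obtain ⟨n, hn⟩ := (T.isPGroup'.to_le h.leT).exists_card_eq
      rcases n with _ | n
      · exact absurd (Subgroup.eq_bot_of_card_eq W (by simpa using hn)) hW1
      · exact hn ▸ dvd_pow_self 2 (Nat.succ_ne_zero n)
    obtain ⟨z, hz⟩ := exists_prime_orderOf_dvd_card' 2 hdvd
    exact ⟨z, z.2, by rwa [orderOf_coe]⟩
  obtain ⟨M, hM⟩ := Blocks.exists_isPModular 2 Nat.prime_two
  have hB := Blocks.isPBlock_principalBlock (G := G) M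
  obtain ⟨X, hX⟩ : ∃ X : Finset G, X = (cosetInv W t).toFinite.toFinset := ⟨_, rfl⟩
  have hmX : ∀ x, x ∈ X ↔ x ∈ cosetInv W t := fun x => by simp [hX]
  obtain ⟨E, hE⟩ : ∃ E : Finset G, E = (fusedIn W z).toFinite.toFinset := ⟨_, rfl⟩
  have hmE : ∀ w, w ∈ E ↔ w ∈ fusedIn W z := fun w => by simp [hE]
  obtain ⟨Z, hZ⟩ : ∃ Z : Finset G, Z = {y : G | IsConj z y}.toFinite.toFinset := ⟨_, rfl⟩
  have hmZ : ∀ y, y ∈ Z ↔ IsConj z y := fun y => by simp [hZ]
  -- sums over the class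
  have hsum : ∀ (x : G), x ∈ X → ∀ (f g : G → ℂ),
      (∀ s : Σ w : fusedIn W z, orb x (w : G) × orb (x * (w : G)) (w : G),
        f (shapeMap W z x s) = g (x * (s.1 : G))) →
      ∑ y ∈ Z, f y =
        ∑ w ∈ E, ((Nat.card (orb x w) * Nat.card (orb (x * w) w) : ℕ) : ℂ) * g (x * w) := by
    intro x hx f g hfg
    have hb := shapeMap_bij h ((hmX x).1 hx) hz hz2
    letI : Fintype (fusedIn W z) := Fintype.ofFinite _
    letI : ∀ w : fusedIn W z, Fintype (orb x (w : G)) := fun w => Fintype.ofFinite _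
    letI : ∀ w : fusedIn W z, Fintype (orb (x * (w : G)) (w : G)) := fun w => Fintype.ofFinite _
    rw [← Finset.sum_bij (fun s _ => shapeMap W z x s) (s := Finset.univ)
      (fun s _ => (hmZ _).2 (hb.1 (Set.mem_univ s)))
      (fun s _ s' _ he => hb.2.1 (Set.mem_univ s) (Set.mem_univ s') he)
      (fun y hy => by
        obtain ⟨s, -, hs⟩ := hb.2.2 ((hmZ y).1 hy)
        exact ⟨s, Finset.mem_univ s, hs⟩)
      (fun s _ => (hfg s).symm)]
    rw [Fintype.sum_sigma]
    refine Eq.trans (Finset.sum_congr rfl fun w _ => ?_) (Finset.sum_subtype E hmE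
      (fun w => ((Nat.card (orb x w) * Nat.card (orb (x * w) w) : ℕ) : ℂ) * g (x * w))).symm
    simp only []
    rw [Finset.sum_const, Finset.card_univ, ← Nat.card_eq_fintype_card, Nat.card_prod, nsmul_eq_mul]
  have hn : ∀ x ∈ X, ∑ w ∈ E, ((Nat.card (orb x w) * Nat.card (orb (x * w) w) : ℕ) : ℂ)
      = (Z.card : ℂ) := fun x hx => by
    have := hsum x hx (fun _ => 1) (fun _ => 1) (fun _ => rfl)
    simpa using this.symm
  have hZne : (Z.card : ℂ) ≠ 0 :=
    Nat.cast_ne_zero.2 (Finset.card_ne_zero.2 ⟨z, (hmZ z).2 (IsConj.refl z)⟩)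
  have hkey : ∀ χ : Cfsg.IrrCharacter G, χ ∈ Cfsg.principalBlock M G →
      (χ : G → ℂ) ≠ (fun _ => 1) → ∑ x ∈ X, (χ : G → ℂ) x = 0 := by
    intro χ hχ hnt
    have hc := Char.IsIrr.isCharacter χ.2
    have hcl := Char.isClassFunction_of_isIrr χ.2
    have hG : (Nat.card G : ℂ) ≠ 0 := Char.card_ne_zero
    -- class multiplication
    have hcm : ∀ x ∈ X, (χ : G → ℂ) 1 *
        ∑ w ∈ E, ((Nat.card (orb x w) * Nat.card (orb (x * w) w) : ℕ) : ℂ) * (χ : G → ℂ) (x * w)
        = (Z.card : ℂ) * (χ : G → ℂ) z * (χ : G → ℂ) x := by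
      intro x hx
      rw [← hsum x hx (fun y => (χ : G → ℂ) (x * y)) (fun u => (χ : G → ℂ) u) ?_]
      · have e1 := CharArith.classMult χ.2 z x
        have e2 : ∑ a : G, (χ : G → ℂ) (a * z * a⁻¹ * x) =
            (Nat.card (centralizer ({z} : Set G)) : ℂ) * ∑ y ∈ Z, (χ : G → ℂ) (x * y) := by
          rw [← Finset.sum_fiberwise_of_maps_to (t := Z) (g := fun a => a * z * a⁻¹)
            (fun a _ => (hmZ _).2 (isConj_iff.2 ⟨a, rfl⟩)), Finset.mul_sum]
          refine Finset.sum_congr rfl fun y hy => ?_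
          rw [Finset.sum_congr rfl (g := fun _ => (χ : G → ℂ) (x * y)) ?_, Finset.sum_const,
            nsmul_eq_mul]
          · congr 2
            obtain ⟨g, hg⟩ := isConj_iff.1 ((hmZ y).1 hy)
            rw [← Fintype.card_subtype, ← Nat.card_eq_fintype_card]
            refine Nat.card_congr
              { toFun := fun a => ⟨g⁻¹ * (a : G), mem_cent_iff.2 ?_⟩
                invFun := fun c => ⟨g * (c : G), ?_⟩
                left_inv := fun a => by simp
                right_inv := fun c => by simp }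
            · have ha : (a : G) * z * (a : G)⁻¹ = y := a.2
              show g⁻¹ * (a : G) * z = z * (g⁻¹ * (a : G))
              calc g⁻¹ * (a : G) * z = g⁻¹ * ((a : G) * z * (a : G)⁻¹) * (a : G) := by group
                _ = g⁻¹ * (g * z * g⁻¹) * (a : G) := by rw [ha, hg]
                _ = z * (g⁻¹ * (a : G)) := by group
            · show g * (c : G) * z * (g * (c : G))⁻¹ = y
              rw [mul_assoc g, (mem_cent_iff.1 c.2).eq, ← hg]
              group
          · intro a ha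
            rw [(Finset.mem_filter.1 ha).2]
            refine Char.classFun_isConj hcl (isConj_iff.2 ⟨x, by group⟩)
        rw [e2] at e1
        have hcard : (Nat.card G : ℂ) =
            (Nat.card (centralizer ({z} : Set G)) : ℂ) * (Z.card : ℂ) := by
          have := Finset.card_eq_sum_card_fiberwise (s := (Finset.univ : Finset G)) (t := Z)
            (f := fun a => a * z * a⁻¹) (fun a _ => (hmZ _).2 (isConj_iff.2 ⟨a, rfl⟩))
          rw [Finset.card_univ, ← Nat.card_eq_fintype_card] at this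
          rw [this, ← Nat.cast_mul]
          congr 1
          rw [mul_comm, ← smul_eq_mul, ← Finset.sum_const]
          refine Finset.sum_congr rfl fun y hy => ?_
          obtain ⟨g, hg⟩ := isConj_iff.1 ((hmZ y).1 hy)
          rw [← Fintype.card_subtype, ← Nat.card_eq_fintype_card]
          refine Nat.card_congr
            { toFun := fun a => ⟨g⁻¹ * (a : G), mem_cent_iff.2 ?_⟩
              invFun := fun c => ⟨g * (c : G), ?_⟩
              left_inv := fun a => by simp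
              right_inv := fun c => by simp }
          · have ha : (a : G) * z * (a : G)⁻¹ = y := a.2
            show g⁻¹ * (a : G) * z = z * (g⁻¹ * (a : G))
            calc g⁻¹ * (a : G) * z = g⁻¹ * ((a : G) * z * (a : G)⁻¹) * (a : G) := by group
              _ = g⁻¹ * (g * z * g⁻¹) * (a : G) := by rw [ha, hg]
              _ = z * (g⁻¹ * (a : G)) := by group
          · show g * (c : G) * z * (g * (c : G))⁻¹ = y
            rw [mul_assoc g, (mem_cent_iff.1 c.2).eq, ← hg]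
            group
        have hcz : (Nat.card (centralizer ({z} : Set G)) : ℂ) ≠ 0 :=
          Nat.cast_ne_zero.2 Nat.card_pos.ne'
        rw [hcard] at e1
        refine mul_left_cancel₀ hcz ?_
        linear_combination e1
      · intro s
        obtain ⟨v, hv, hve⟩ := shapeMap_prod h ((hmX x).1 hx) hz2 s
        show (χ : G → ℂ) (x * shapeMap W z x s) = (χ : G → ℂ) (x * (s.1 : G))
        have h2 := (h.coset_props (h.mul_mem_coset ((hmX x).1 hx) s.1.2.1
          (Invol.orderOf_eq_two_of_isConj s.1.2.2 hz2))).1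
        obtain ⟨v', hv', rfl⟩ := mem_map.1 hv
        rw [hve]
        refine Eq.trans (Char.classFun_isConj hcl (IsConj.symm (isConj_iff.2 ⟨_, rfl⟩))) ?_
        exact Invol.section_constant hM ⟨1, by rw [h2, pow_one]⟩ _ Core.not_dvd_card_pPrimeCore hχ hv'
    -- column sums
    have htot : ∑ x ∈ X, ∑ w ∈ E, ((Nat.card (orb x w) * Nat.card (orb (x * w) w) : ℕ) : ℂ) *
        (χ : G → ℂ) (x * w) = (Z.card : ℂ) * ∑ x ∈ X, (χ : G → ℂ) x := by
      rw [Finset.sum_comm, Finset.mul_sum]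
      calc ∑ w ∈ E, ∑ x ∈ X, ((Nat.card (orb x w) * Nat.card (orb (x * w) w) : ℕ) : ℂ) *
              (χ : G → ℂ) (x * w)
          = ∑ w ∈ E, ∑ x ∈ X, ((Nat.card (orb x w) * Nat.card (orb (x * w) w) : ℕ) : ℂ) *
              (χ : G → ℂ) x := by
            refine Finset.sum_congr rfl fun w hw => ?_
            have hwE := (hmE w).1 hw
            have hw2 := Invol.orderOf_eq_two_of_isConj hwE.2 hz2
            have hinv : ∀ x : G, x * w * w = x := fun x => by
              rw [mul_assoc, Invol.mul_self_eq_one hw2, mul_one]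
            refine Finset.sum_nbij' (fun x => x * w) (fun x => x * w)
              (fun x hx => (hmX _).2 (h.mul_mem_coset ((hmX x).1 hx) hwE.1 hw2))
              (fun x hx => (hmX _).2 (h.mul_mem_coset ((hmX x).1 hx) hwE.1 hw2))
              (fun x _ => hinv x) (fun x _ => hinv x) (fun x _ => ?_)
            rw [hinv, mul_comm (Nat.card (orb x w))]
        _ = ∑ x ∈ X, ∑ w ∈ E, ((Nat.card (orb x w) * Nat.card (orb (x * w) w) : ℕ) : ℂ) *
              (χ : G → ℂ) x := Finset.sum_comm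
        _ = ∑ x ∈ X, (Z.card : ℂ) * (χ : G → ℂ) x := by
            refine Finset.sum_congr rfl fun x hx => ?_
            rw [← Finset.sum_mul, hn x hx]
    have h2 := Finset.sum_congr rfl hcm
    rw [← Finset.mul_sum, ← Finset.mul_sum, htot] at h2
    have hne : (χ : G → ℂ) 1 - (χ : G → ℂ) z ≠ 0 := sub_ne_zero.2 fun e => hnt (by
      have hzk : z ∈ Char.kerSubgroup hc := e.symm
      rcases IsSimpleGroup.eq_bot_or_eq_top_of_normal (Char.kerSubgroup hc) inferInstance with hk | hk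
      · rw [hk, mem_bot] at hzk
        simp [hzk] at hz2
      · exact Invol.irr_eq_one_of_const χ fun g =>
          (hk ▸ Subgroup.mem_top g : g ∈ Char.kerSubgroup hc))
    have h3 : ((χ : G → ℂ) 1 - (χ : G → ℂ) z) * ((Z.card : ℂ) * ∑ x ∈ X, (χ : G → ℂ) x) = 0 := by
      linear_combination h2
    exact (mul_eq_zero.1 ((mul_eq_zero.1 h3).resolve_left hne)).resolve_left hZne
  have horth : ∑ x ∈ X, ∑ χ : Cfsg.IrrCharacter G,
      (if χ ∈ Cfsg.principalBlock M G then (χ : G → ℂ) 1 * (χ : G → ℂ) x else 0) = 0 := by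
    refine Finset.sum_eq_zero fun x hx => BlockChar.sum_block_degree_mul_eq_zero hM hB ?_
    simp [Cfsg.IsPRegular, (h.coset_props ((hmX x).1 hx)).1]
  rw [Finset.sum_comm, Finset.sum_eq_single (Blocks.triv G)] at horth
  · simp only [if_pos (Blocks.triv_mem_principalBlock hM)] at horth
    simp [Blocks.triv] at horth
    have : t ∈ X := (hmX t).2 ⟨1, one_mem _, (one_mul t).symm, h.t_ord⟩
    simp [horth] at this
  · intro χ _ hne'
    by_cases hχ : χ ∈ Cfsg.principalBlock M G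
    · simp only [if_pos hχ]
      rw [← Finset.mul_sum, hkey χ hχ fun e => hne' (Subtype.ext e), mul_zero]
    · simp [hχ]
  · exact fun hh => absurd (Finset.mem_univ _) hh

end Cfsg.Agent.WeakCosetTwo
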